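import Groth.Agent.DefLib.ArtFlat
import Groth.Agent.RegLCILib.Local
import Mathlib

/-!
# Lifting ideals with Koszul regular reduction along small extensions
-/

set_option autoImplicit false
set_option linter.style.haveILetI false
set_option linter.unusedSectionVars false
set_option maxHeartbeats 1000000
universe u

open IsLocalRing

noncomputable section

namespace LCIDefLib

section Gen

variable {C : Type u} [CommRing C] {A : Type u} [CommRing A] [Algebra C A]

theorem smul_restrict_le (J : Ideal C) (G : Ideal A) :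
    J • G.restrictScalars C ≤ (J.map (algebraMap C A) * G).restrictScalars C :=
  Submodule.smul_le.2 fun c hc x hx => by
    rw [Algebra.smul_def]
    exact Ideal.mul_mem_mul (Ideal.mem_map_of_mem _ hc) hx

/-- For a flat quotient, `G ∩ JA = JG`. -/
theorem inf_map_le_mul (G : Ideal A) [Module.Flat C (A ⧸ G)] (J : Ideal C) :
    G ⊓ J.map (algebraMap C A) ≤ J.map (algebraMap C A) * G := by
  intro x hx
  let π : A →ₗ[C] A ⧸ G := (Ideal.Quotient.mkₐ C G).toLinearMap
  have hker : LinearMap.ker π = G.restrictScalars C := SetLike.ext fun z => Ideal.Quotient.eq_zero_iff_mem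
  have h : x ∈ LinearMap.ker π ⊓ J • (⊤ : Submodule C A) := by
    refine ⟨hker.ge hx.1, ?_⟩
    rw [Ideal.smul_top_eq_map]
    exact hx.2
  exact smul_restrict_le J G (hker ▸ DefLib.ker_inf_smul_le π Ideal.Quotient.mk_surjective J h)

theorem le_of_le_sup_pow {N K G : Ideal A} (hN : IsNilpotent N) (h : K ≤ G ⊔ N * K) : K ≤ G := by
  obtain ⟨n, hn⟩ := hN
  have key : ∀ j, K ≤ G ⊔ N ^ j * K := by
    intro j
    induction j with
    | zero => simp
    | succ j ih =>
      refine ih.trans (sup_le le_sup_left ((Ideal.mul_mono le_rfl h).trans ?_))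
      rw [Ideal.mul_sup, ← mul_assoc, ← pow_succ]
      exact sup_le_sup_right Ideal.mul_le_right _
  refine (key n).trans ?_
  rw [hn, zero_mul]
  simp

end Gen

variable {C : Type u} [CommRing C] [IsLocalRing C] [IsArtinianRing C] {P : Type u} [CommRing P] [Algebra C P]
  {P₀ : Type u} [CommRing P₀] [Algebra P P₀]

local notation "jP " J:max => Ideal.map (algebraMap C P) J
local notation "𝔪" => Ideal.map (algebraMap C P) (maximalIdeal C)

theorem maximalIdeal_isNilpotent : IsNilpotent (maximalIdeal C) := by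
  obtain ⟨n, hn⟩ := (IsArtinianRing.isNilpotent_jacobson_bot (R := C))
  rw [IsLocalRing.jacobson_eq_maximalIdeal ⊥ bot_ne_top] at hn
  exact ⟨n, hn⟩

theorem nilpotent_map (A : Type u) [CommRing A] [Algebra C A] :
    IsNilpotent ((maximalIdeal C).map (algebraMap C A)) := by
  obtain ⟨n, hn⟩ := (IsArtinianRing.isNilpotent_jacobson_bot (R := C))
  rw [IsLocalRing.jacobson_eq_maximalIdeal ⊥ bot_ne_top] at hn
  exact ⟨n, by rw [← Ideal.map_pow, hn, Submodule.zero_eq_bot, Ideal.map_bot]; rfl⟩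

/-- `K` is a lift of `I` over `C ⧸ J`, flat to first order. -/
structure Good (I : Ideal P₀) (J : Ideal C) (K : Ideal P) : Prop where
  le : jP J ≤ K
  map_eq : K.map (algebraMap P P₀) = I
  inf_le : 𝔪 ⊓ K ≤ jP J ⊔ 𝔪 * K

variable [Module.Flat C P] [IsNoetherianRing P] (hq : Function.Surjective (algebraMap P P₀))
  (hker : RingHom.ker (algebraMap P P₀) = Ideal.map (algebraMap C P) (maximalIdeal C)) {I : Ideal P₀} (hI : KRLib.LocKR I)

include hq hker hI in
/-- Local structure of a good lift. -/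
theorem local_gen {J : Ideal C} {K : Ideal P} (h : Good I J K) (Q : Ideal P) [Q.IsPrime] (hKQ : K ≤ Q) :
    ∃ G : Ideal (Localization.AtPrime Q), G ≤ K.map (algebraMap P _) ∧
      Module.Flat C (Localization.AtPrime Q ⧸ G) ∧
      K.map (algebraMap P (Localization.AtPrime Q)) ≤ G ⊔ J.map (algebraMap C (Localization.AtPrime Q)) := by
  have hmQ : 𝔪 ≤ Q := fun x hx => by
    obtain ⟨n, hn⟩ := nilpotent_map (C := C) P
    refine ‹Q.IsPrime›.mem_of_pow_mem n ?_
    have := Ideal.pow_mem_pow hx n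
    rw [hn] at this
    rw [show x ^ n = 0 from this]
    exact zero_mem _
  let Q₀ := Q.map (algebraMap P P₀)
  haveI : Q₀.IsPrime := Ideal.map_isPrime_of_surjective hq (hker.trans_le hmQ)
  haveI : IsNoetherianRing P₀ := isNoetherianRing_of_surjective P P₀ _ hq
  have hIQ : I ≤ Q₀ := h.map_eq ▸ Ideal.map_mono hKQ
  let P' := Localization.AtPrime Q
  let T := Localization.AtPrime Q₀
  have hmem : ∀ x, x ∈ Q ↔ algebraMap P P₀ x ∈ Q₀ := fun x => by
    refine ⟨Ideal.mem_map_of_mem _, fun hx => ?_⟩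
    obtain ⟨y, hy, hyx⟩ := (Ideal.mem_map_iff_of_surjective _ hq).1 hx
    have : y - x ∈ Q := hmQ (hker.le (show _ ∈ RingHom.ker _ by rw [RingHom.mem_ker, map_sub, hyx, sub_self]))
    have h2 := sub_mem hy this
    rwa [sub_sub_cancel] at h2
  have hT : Submonoid.map (algebraMap P P₀) Q.primeCompl = Q₀.primeCompl := by
    ext z
    constructor
    · rintro ⟨x, hx, rfl⟩
      exact fun h => hx ((hmem x).2 h)
    · intro hz
      obtain ⟨x, rfl⟩ := hq z
      exact ⟨x, fun h => hz ((hmem x).1 h), rfl⟩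
  haveI : IsLocalization (Q.primeCompl.map (algebraMap P P₀)) T := by rw [hT]; infer_instance
  let r : P' →+* T := IsLocalization.map T (algebraMap P P₀) (Submonoid.le_comap_map Q.primeCompl)
  have hr : Function.Surjective r :=
    IsLocalization.map_surjective_of_surjective P' T (g := algebraMap P P₀) (M := Q.primeCompl) hq
  let m' := (maximalIdeal C).map (algebraMap C P')
  have hmm : (𝔪).map (algebraMap P P') = m' := by rw [Ideal.map_map, ← IsScalarTower.algebraMap_eq]
  have hrker : RingHom.ker r = m' := by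
    rw [← hmm, ← hker]
    exact IsLocalization.ker_map (S := P') T (algebraMap P P₀) rfl
  have hcomp : ∀ x, r (algebraMap P P' x) = algebraMap P₀ T (algebraMap P P₀ x) := IsLocalization.map_eq _
  let K' := K.map (algebraMap P P')
  have hKI : K'.map r = I.map (algebraMap P₀ T) := by
    rw [← h.map_eq, Ideal.map_map, Ideal.map_map]
    congr 1
    exact RingHom.ext hcomp
  obtain ⟨rs, hrs, hreg⟩ := RegLCILib.exists_regular_atPrime hI Q₀ hIQ
  choose g hgK hg using fun i : Fin rs.length => (Ideal.mem_map_iff_of_surjective r hr).1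
    (show rs.get i ∈ K'.map r from (hrs.trans hKI.symm).le (Ideal.subset_span (List.get_mem rs i)))
  let e : P' ⧸ m' ≃+* T := (Ideal.quotEquivOfEq hrker.symm).trans (RingHom.quotientKerEquivOfSurjective hr)
  have he : ∀ x, e (Ideal.Quotient.mk m' x) = r x := fun x => rfl
  have hweak : RingTheory.Sequence.IsWeaklyRegular (P' ⧸ m')
      (List.ofFn fun i => Ideal.Quotient.mk m' (g i)) := by
    refine (e.toAddEquiv.isWeaklyRegular_congr (bs := rs) ?_).2 hreg.toIsWeaklyRegular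
    refine List.forall₂_iff_get.2 ⟨List.length_ofFn, fun i h₁ h₂ x => ?_⟩
    show e (_ • x) = _ • e x
    rw [smul_eq_mul, smul_eq_mul, map_mul, List.get_ofFn, he, hg]
    rfl
  obtain ⟨-, hflat⟩ := DefLib.isWeaklyRegular_and_flat maximalIdeal_isNilpotent g hweak
  let G := Ideal.span (Set.range g)
  have hGK : G ≤ K' := Ideal.span_le.2 (Set.range_subset_iff.2 hgK)
  refine ⟨G, hGK, hflat, le_of_le_sup_pow (nilpotent_map (C := C) P') ?_⟩
  intro x hx
  have h1 : r x ∈ G.map r := by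
    rw [show G.map r = Ideal.ofList rs by
      rw [Ideal.map_span, ← Set.range_comp, show (r : P' → T) ∘ g = rs.get from funext hg]
      exact (TransLib.ofList_ofFn _).symm.trans (by rw [List.ofFn_get]), hrs, ← hKI]
    exact Ideal.mem_map_of_mem r hx
  obtain ⟨y, hy, hyx⟩ := (Ideal.mem_map_iff_of_surjective r hr).1 h1
  have h2 : x - y ∈ m' := hrker.le (show _ ∈ RingHom.ker _ by rw [RingHom.mem_ker, map_sub, hyx, sub_self])
  have h3 : x - y ∈ K' := sub_mem hx (hGK hy)
  obtain ⟨⟨a, s⟩, ha⟩ := (IsLocalization.mem_map_algebraMap_iff Q.primeCompl P').1 h3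
  obtain ⟨⟨b, t⟩, hb⟩ := (IsLocalization.mem_map_algebraMap_iff Q.primeCompl P').1 (hmm.ge h2)
  have hab : algebraMap P P' ((t : P) * a) = algebraMap P P' ((s : P) * b) := by
    rw [map_mul, map_mul, ← ha, ← hb]
    ring
  obtain ⟨c, hc⟩ := (IsLocalization.eq_iff_exists Q.primeCompl P').1 hab
  have h4 : (c : P) * ((t : P) * a) ∈ 𝔪 ⊓ K :=
    ⟨hc ▸ Ideal.mul_mem_left _ _ (Ideal.mul_mem_left _ _ b.2), Ideal.mul_mem_left _ _ (Ideal.mul_mem_left _ _ a.2)⟩
  have h5 : algebraMap P P' ((c : P) * ((t : P) * a)) ∈ J.map (algebraMap C P') ⊔ m' * K' := by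
    have := Ideal.mem_map_of_mem (algebraMap P P') (h.inf_le h4)
    rwa [Ideal.map_sup, Ideal.map_mul, hmm, Ideal.map_map, ← IsScalarTower.algebraMap_eq] at this
  have hu : IsUnit (algebraMap P P' ((c : P) * (t : P) * (s : P))) :=
    IsLocalization.map_units P' (c * t * s)
  have h6 : algebraMap P P' ((c : P) * (t : P) * (s : P)) * (x - y) =
      algebraMap P P' ((c : P) * ((t : P) * a)) := by
    simp only [map_mul]
    rw [← ha]
    ring
  have h7 : x - y ∈ J.map (algebraMap C P') ⊔ m' * K' := by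
    rw [← h6] at h5
    exact (Ideal.unit_mul_mem_iff_mem _ hu).1 h5
  have : x = y + (x - y) := by abel
  rw [this]
  exact (sup_le (le_sup_left.trans le_sup_left) (sup_le (le_sup_right.trans le_sup_left) le_sup_right) :
    G ⊔ (J.map (algebraMap C P') ⊔ m' * K') ≤ (G ⊔ J.map (algebraMap C P')) ⊔ m' * K')
    (Submodule.add_mem_sup hy h7)

include hq hker hI in
theorem inf_le_local {J₁ J₂ : Ideal C} {K : Ideal P} (h12 : J₁ ≤ J₂) (hJm : J₂ ≤ maximalIdeal C)
    (hm : maximalIdeal C * J₂ ≤ J₁) (h : Good I J₂ K) :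
    jP J₂ ⊓ (K * K ⊔ 𝔪 * K ⊔ jP J₁) ≤ jP J₂ * K ⊔ jP J₁ := by
  refine Ideal.le_of_localization_maximal fun Q hQ => ?_
  let P' := Localization.AtPrime Q
  let f := algebraMap P P'
  have hf : ∀ J : Ideal C, (jP J).map f = J.map (algebraMap C P') := fun J => by
    rw [Ideal.map_map, ← IsScalarTower.algebraMap_eq]
  refine (le_inf (Ideal.map_mono inf_le_left) (Ideal.map_mono inf_le_right) :
    _ ≤ (jP J₂).map f ⊓ (K * K ⊔ 𝔪 * K ⊔ jP J₁).map f).trans ?_
  rw [Ideal.map_sup, Ideal.map_sup, Ideal.map_sup, Ideal.map_mul f, Ideal.map_mul f, Ideal.map_mul f, hf, hf, hf]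
  by_cases hKQ : K ≤ Q
  swap
  · obtain ⟨s, hsK, hsQ⟩ := Set.not_subset.1 hKQ
    have : K.map f = ⊤ := Ideal.eq_top_of_isUnit_mem _ (Ideal.mem_map_of_mem f hsK)
      (IsLocalization.map_units P' (⟨s, hsQ⟩ : Q.primeCompl))
    simp only [this, Ideal.mul_top]
    exact inf_le_left.trans le_sup_left
  obtain ⟨G, hGK, hflat, hK⟩ := local_gen hq hker hI h Q hKQ
  let M₁ := J₁.map (algebraMap C P')
  let M₂ := J₂.map (algebraMap C P')
  let m' := (maximalIdeal C).map (algebraMap C P')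
  have hmJ : m' * M₂ ≤ M₁ := by
    have := Ideal.map_mono (f := algebraMap C P') hm
    rwa [Ideal.map_mul] at this
  have h22 : M₂ * M₂ ≤ M₁ := (Ideal.mul_mono (Ideal.map_mono hJm) le_rfl).trans hmJ
  have e1 : K.map f * K.map f ≤ G ⊔ M₁ := by
    refine (Ideal.mul_mono hK hK).trans ?_
    rw [Ideal.sup_mul, Ideal.mul_sup M₂]
    exact sup_le (Ideal.mul_le_left.trans le_sup_left) (sup_le (Ideal.mul_le_right.trans le_sup_left) (h22.trans le_sup_right))
  have e2 : m' * K.map f ≤ G ⊔ M₁ := by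
    refine (Ideal.mul_mono le_rfl hK).trans ?_
    rw [Ideal.mul_sup]
    exact sup_le (Ideal.mul_le_right.trans le_sup_left) (hmJ.trans le_sup_right)
  rintro x ⟨hx2, hx⟩
  obtain ⟨u, hu, v, hv, rfl⟩ := Submodule.mem_sup.1 ((sup_le (sup_le e1 e2) le_sup_right : _ ≤ G ⊔ M₁) hx)
  have hu2 : u ∈ M₂ := by
    have h2 := sub_mem hx2 (Ideal.map_mono h12 hv)
    rwa [add_sub_cancel_right] at h2
  exact Submodule.add_mem_sup (Ideal.mul_mono le_rfl hGK (inf_map_le_mul G J₂ ⟨hu, hu2⟩)) hv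

include hq hker hI in
theorem exists_step [Module.Projective (P₀ ⧸ I) I.Cotangent] {J₁ J₂ : Ideal C} {K : Ideal P} (h12 : J₁ ≤ J₂)
    (hJm : J₂ ≤ maximalIdeal C) (hm : maximalIdeal C * J₂ ≤ J₁) (h : Good I J₂ K) :
    ∃ K₁, Good I J₁ K₁ ∧ K₁ ⊔ jP J₂ = K := by
  let D2 : Ideal P := K * K ⊔ 𝔪 * K ⊔ jP J₁
  have hD2K : D2 ≤ K := sup_le (sup_le Ideal.mul_le_left Ideal.mul_le_right) ((Ideal.map_mono h12).trans h.le)
  let N : Submodule P K := Submodule.comap K.subtype D2
  let T := ↥K ⧸ N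
  have hqK : ∀ x : K, algebraMap P P₀ x ∈ I := fun x => h.map_eq.le (Ideal.mem_map_of_mem _ x.2)
  let ε₀ : ↥K →ₗ[P] I.Cotangent :=
    { toFun := fun x => I.toCotangent ⟨algebraMap P P₀ x, hqK x⟩
      map_add' := fun x y => by
        rw [← map_add]
        congr 1
        exact Subtype.ext (map_add (algebraMap P P₀) (x : P) y)
      map_smul' := fun p x => by
        rw [RingHom.id_apply, ← algebraMap_smul P₀ p (I.toCotangent ⟨algebraMap P P₀ x, hqK x⟩), ← map_smul]
        congr 1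
        exact Subtype.ext (map_mul (algebraMap P P₀) p (x : P)) }
  have hm0 : ∀ y ∈ (𝔪), algebraMap P P₀ y = 0 := fun y hy => by rw [← RingHom.mem_ker, hker]; exact hy
  have hD20 : D2.map (algebraMap P P₀) ≤ I ^ 2 := by
    rw [Ideal.map_sup, Ideal.map_sup, Ideal.map_mul, Ideal.map_mul, h.map_eq, pow_two]
    refine sup_le (sup_le le_rfl ((Ideal.mul_mono ?_ le_rfl).trans (by rw [Ideal.bot_mul]; exact bot_le))) ?_
    · exact Ideal.map_le_iff_le_comap.2 fun y hy => hm0 y hy
    · exact Ideal.map_le_iff_le_comap.2 fun y hy => by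
        rw [Ideal.mem_comap, hm0 y (Ideal.map_mono (h12.trans hJm) hy)]
        exact zero_mem _
  let ε : T →ₗ[P] I.Cotangent := N.liftQ ε₀ fun x hx =>
    (I.toCotangent_eq_zero _).2 (hD20 (Ideal.mem_map_of_mem _ hx))
  have hεs : Function.Surjective ε := fun c => by
    obtain ⟨⟨z, hz⟩, rfl⟩ := I.toCotangent_surjective c
    obtain ⟨y, hy, rfl⟩ := (Ideal.mem_map_iff_of_surjective _ hq).1 (h.map_eq.ge hz)
    exact ⟨N.mkQ ⟨y, hy⟩, rfl⟩
  -- `T` is killed by the kernel of `P → P₀ ⧸ I`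
  let ρ : P →ₗ[P] P₀ ⧸ I := (Submodule.mkQ (I.restrictScalars P)).comp (Algebra.linearMap P P₀)
  have hρ : Function.Surjective ρ := (Submodule.mkQ_surjective _).comp hq
  have hkill : ∀ (p : P), ρ p = 0 → ∀ t : T, p • t = 0 := fun p hp t => by
    obtain ⟨⟨y, hy⟩, rfl⟩ := N.mkQ_surjective t
    rw [← map_smul, Submodule.mkQ_apply, Submodule.Quotient.mk_eq_zero]
    have hpI : algebraMap P P₀ p ∈ I := (Submodule.Quotient.mk_eq_zero _).1 hp
    obtain ⟨z, hz, hzp⟩ := (Ideal.mem_map_iff_of_surjective _ hq).1 (h.map_eq.ge hpI)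
    have hpz : p - z ∈ 𝔪 := hker.le (show _ ∈ RingHom.ker _ by rw [RingHom.mem_ker, map_sub, hzp, sub_self])
    show p * y ∈ D2
    have : p * y = z * y + (p - z) * y := by ring
    rw [this]
    exact Submodule.mem_sup_left (Submodule.add_mem_sup (Ideal.mul_mem_mul hz hy) (Ideal.mul_mem_mul hpz hy))
  obtain ⟨s, hs⟩ := Module.projective_def'.1 ‹Module.Projective (P₀ ⧸ I) I.Cotangent›
  let lift : I.Cotangent → T := Function.surjInv hεs
  let φ : I.Cotangent → ((P₀ ⧸ I) →ₗ[P] T) := fun d =>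
    ((LinearMap.ker ρ).liftQ (LinearMap.toSpanSingleton P T (lift d)) fun p hp => hkill p hp _).comp
      (LinearMap.quotKerEquivOfSurjective ρ hρ).symm.toLinearMap
  have hφ : ∀ d p, φ d (ρ p) = p • lift d := fun d p => by
    simp only [φ, LinearMap.comp_apply, LinearEquiv.coe_coe]
    rw [show (LinearMap.quotKerEquivOfSurjective ρ hρ).symm (ρ p) = Submodule.Quotient.mk p from
      (LinearEquiv.symm_apply_eq _).2 rfl]
    rfl
  have hsc : ∀ (p : P) (c : I.Cotangent), p • c = ρ p • c := fun p c => by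
    rw [← algebraMap_smul P₀ p c]
    rfl
  have hsq : ∀ (p : P) (a : P₀ ⧸ I), p • a = ρ p * a := fun p a => by
    obtain ⟨a, rfl⟩ := Ideal.Quotient.mk_surjective a
    exact congrArg (Ideal.Quotient.mk I) (Algebra.smul_def p a)
  let sP : I.Cotangent →ₗ[P] (I.Cotangent →₀ P₀ ⧸ I) :=
    { toFun := s
      map_add' := map_add s
      map_smul' := fun p c => by
        rw [RingHom.id_apply, hsc, map_smul]
        exact Finsupp.ext fun d => (hsq p _).symm }
  let σ : I.Cotangent →ₗ[P] T := (Finsupp.lsum P φ).comp sP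
  have hεσ : ∀ c, ε (σ c) = c := fun c => by
    conv_rhs => rw [← show Finsupp.linearCombination (P₀ ⧸ I) id (s c) = c from LinearMap.congr_fun hs c]
    show ε (Finsupp.lsum P φ (s c)) = _
    generalize s c = v
    induction v using Finsupp.induction_linear with
    | zero => simp
    | add a b ha hb => simp only [map_add, ha, hb]
    | single d a =>
      obtain ⟨p, rfl⟩ := hρ a
      rw [Finsupp.lsum_single, hφ, map_smul, Finsupp.linearCombination_single, id_eq,
        Function.surjInv_eq hεs]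
      exact hsc p d
  let K₁ : Ideal P := Submodule.map K.subtype (Submodule.comap N.mkQ (LinearMap.range σ))
  have hK₁ : ∀ x, x ∈ K₁ ↔ ∃ hx : x ∈ K, N.mkQ ⟨x, hx⟩ ∈ LinearMap.range σ := fun x =>
    ⟨fun ⟨⟨y, hy⟩, h1, h2⟩ => by cases h2; exact ⟨hy, h1⟩, fun ⟨hx, h1⟩ => ⟨⟨x, hx⟩, h1, rfl⟩⟩
  have hK₁K : K₁ ≤ K := fun x hx => ((hK₁ x).1 hx).1
  have hJ₂K : jP J₂ ≤ K := h.le
  have hsup : K₁ ⊔ jP J₂ = K := by
    refine le_antisymm (sup_le hK₁K hJ₂K) fun x hx => ?_
    let t := N.mkQ ⟨x, hx⟩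
    obtain ⟨⟨x₁, hx₁⟩, hx₁'⟩ := N.mkQ_surjective (σ (ε t))
    have h1 : x₁ ∈ K₁ := (hK₁ x₁).2 ⟨hx₁, ε t, hx₁'.symm⟩
    have h0 : ε (N.mkQ (⟨x, hx⟩ - ⟨x₁, hx₁⟩)) = 0 := by rw [map_sub, map_sub, hx₁', hεσ, sub_self]
    have h2 : algebraMap P P₀ (x - x₁) ∈ (K * K).map (algebraMap P P₀) := by
      rw [Ideal.map_mul, h.map_eq, ← pow_two]
      exact (I.toCotangent_eq_zero _).1 h0
    obtain ⟨y, hy, hyx⟩ := (Ideal.mem_map_iff_of_surjective _ hq).1 h2
    have h3 : x - x₁ - y ∈ 𝔪 ⊓ K :=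
      ⟨hker.le (show _ ∈ RingHom.ker _ by rw [RingHom.mem_ker, map_sub, hyx, sub_self]), sub_mem (sub_mem hx hx₁) (Ideal.mul_le_left hy)⟩
    obtain ⟨j, hj, w, hw, hjw⟩ := Submodule.mem_sup.1 (h.inf_le h3)
    have h4 : w + y ∈ K₁ := by
      refine (hK₁ _).2 ⟨add_mem (Ideal.mul_le_right hw) (Ideal.mul_le_left hy), 0, ?_⟩
      rw [map_zero]
      exact ((Submodule.Quotient.mk_eq_zero N).2 (Submodule.mem_sup_left
        (add_mem (Submodule.mem_sup_right hw) (Submodule.mem_sup_left hy)))).symm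
    have : x = (x₁ + (w + y)) + j := by linear_combination -hjw
    rw [this]
    exact Submodule.add_mem_sup (add_mem h1 h4) hj
  have hJ₁ : jP J₁ ≤ K₁ := fun x hx => (hK₁ x).2 ⟨hJ₂K (Ideal.map_mono h12 hx), 0, by
    rw [map_zero]
    exact ((Submodule.Quotient.mk_eq_zero N).2 (Submodule.mem_sup_right hx)).symm⟩
  refine ⟨K₁, ⟨hJ₁, ?_, ?_⟩, hsup⟩
  · rw [← h.map_eq, ← hsup, Ideal.map_sup]
    refine (sup_of_le_left (le_trans ?_ bot_le)).symm
    exact Ideal.map_le_iff_le_comap.2 fun y hy => hm0 y (Ideal.map_mono hJm hy)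
  · rintro x ⟨hxm, hx₁⟩
    have h1 := h.inf_le ⟨hxm, hK₁K hx₁⟩
    have h2 : 𝔪 * K ≤ 𝔪 * K₁ ⊔ jP J₁ := by
      rw [← hsup, Ideal.mul_sup]
      exact sup_le le_sup_left ((by rw [← Ideal.map_mul]; exact Ideal.map_mono hm : 𝔪 * jP J₂ ≤ jP J₁).trans le_sup_right)
    obtain ⟨j, hj, w, hw, rfl⟩ := Submodule.mem_sup.1 ((sup_le_sup_left h2 _) h1)
    obtain ⟨w₁, hw₁, w₂, hw₂, rfl⟩ := Submodule.mem_sup.1 hw
    have hjK₁ : j ∈ K₁ := by
      have h5 := sub_mem hx₁ (add_mem (Ideal.mul_le_right hw₁) (hJ₁ hw₂))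
      rwa [add_sub_cancel_right] at h5
    obtain ⟨hjK, c, hc⟩ := (hK₁ j).1 hjK₁
    have hc0 : c = 0 := by
      rw [← hεσ c, hc]
      exact (I.toCotangent_eq_zero _).2 (by
        show algebraMap P P₀ j ∈ I ^ 2
        rw [hm0 j (Ideal.map_mono hJm hj)]
        exact zero_mem _)
    rw [hc0, map_zero] at hc
    have hjD : j ∈ D2 := (Submodule.Quotient.mk_eq_zero N).1 hc.symm
    have h6 := inf_le_local hq hker hI h12 hJm hm h ⟨hj, hjD⟩
    have h7 : jP J₂ * K ⊔ jP J₁ ≤ jP J₁ ⊔ 𝔪 * K₁ := by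
      refine sup_le ((Ideal.mul_mono (Ideal.map_mono hJm) le_rfl).trans (h2.trans ?_)) le_sup_left
      exact sup_le le_sup_right le_sup_left
    exact add_mem (h7 h6) (add_mem (Submodule.mem_sup_right hw₁) (Submodule.mem_sup_left hw₂))

include hq hker hI in
/-- A good lift lifts through any ideal. -/
theorem exists_lift [Module.Projective (P₀ ⧸ I) I.Cotangent] {J : Ideal C} {K : Ideal P}
    (hJm : J ≤ maximalIdeal C) (h : Good I J K) : ∃ K', Good I (⊥ : Ideal C) K' ∧ K' ⊔ jP J = K := by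
  have key : ∀ n : ℕ, ∃ K', Good I (maximalIdeal C ^ n * J) K' ∧ K' ⊔ jP J = K := by
    intro n
    induction n with
    | zero => exact ⟨K, by simpa using h, sup_of_le_left h.le⟩
    | succ n ih =>
      obtain ⟨K', hK', hs⟩ := ih
      have hle : maximalIdeal C ^ (n + 1) * J ≤ maximalIdeal C ^ n * J :=
        Ideal.mul_mono (Ideal.pow_le_pow_right (Nat.le_succ n)) le_rfl
      obtain ⟨K₁, h₁, hs₁⟩ := exists_step hq hker hI hle (Ideal.mul_le_right.trans hJm)
        (by rw [← mul_assoc, ← pow_succ']) hK'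
      refine ⟨K₁, h₁, ?_⟩
      rw [← hs, ← hs₁, sup_assoc, sup_of_le_right (show jP (maximalIdeal C ^ n * J) ≤ jP J from Ideal.map_mono Ideal.mul_le_right)]
  obtain ⟨n, hn⟩ := maximalIdeal_isNilpotent (C := C)
  obtain ⟨K', hK', hs⟩ := key n
  exact ⟨K', by simpa [hn] using hK', hs⟩

include hq hker hI in
/-- The quotient by a good lift over `C` itself is flat. -/
theorem flat_of_good {K : Ideal P} (h : Good I (⊥ : Ideal C) K) : Module.Flat C (P ⧸ K) := by
  refine Module.flat_of_isLocalized_maximal (R := C) (S := P) (P ⧸ K)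
    (fun Q _ => Localization.AtPrime Q ⧸ Submodule.localized' (Localization.AtPrime Q) Q.primeCompl
      (Algebra.linearMap P (Localization.AtPrime Q)) K)
    (fun Q _ => K.toLocalizedQuotient' (Localization.AtPrime Q) Q.primeCompl
      (Algebra.linearMap P (Localization.AtPrime Q))) fun Q hQ => ?_
  let P' := Localization.AtPrime Q
  suffices hf : Module.Flat C (P' ⧸ K.map (algebraMap P P')) by
    exact Module.Flat.of_linearEquiv ((Submodule.quotEquivOfEq _ _
      (Ideal.localized'_eq_map P' Q.primeCompl K)).restrictScalars C)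
  by_cases hKQ : K ≤ Q
  · obtain ⟨G, hGK, hflat, hK⟩ := local_gen hq hker hI h Q hKQ
    rw [Ideal.map_bot, sup_bot_eq] at hK
    rwa [le_antisymm hK hGK]
  · obtain ⟨s, hsK, hsQ⟩ := Set.not_subset.1 hKQ
    rw [Ideal.eq_top_of_isUnit_mem _ (Ideal.mem_map_of_mem _ hsK)
      (IsLocalization.map_units P' (⟨s, hsQ⟩ : Q.primeCompl))]
    infer_instance

end LCIDefLib
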