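import Groth.Agent.LCIDefLib.Core
import Groth.Agent.DefLib.AffineExt
import Groth.Agent.NLPerfLib.Basic
import Groth.Agent.NLConvLib.Basic
import Groth.Prelude.Def_LCI2

/-!
# Deformations of affine local complete intersections are unobstructed
-/

set_option autoImplicit false
set_option linter.style.haveILetI false
set_option linter.unusedSectionVars false
set_option maxHeartbeats 1600000
universe u

open CategoryTheory CategoryTheory.Limits AlgebraicGeometry IsLocalRing

noncomputable section

namespace LCIDefLib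

theorem projective_cotangent_of_locKR {k P₀ : Type u} [CommRing k] [CommRing P₀] [Algebra k P₀] {I : Ideal P₀}
    (h : KRLib.LocKR I) : Module.Projective (P₀ ⧸ I) I.Cotangent := by
  let E := Algebra.Extension.ofSurjective (Ideal.Quotient.mkₐ k I) Ideal.Quotient.mk_surjective
  have hE : E.ker = I := Ideal.Quotient.mkₐ_ker k I
  haveI := (NLPerfLib.projective_cotangent E (show LCI.IsKoszulRegularIdeal E.ker from hE.symm ▸ (KRLib.locKR_iff I).1 h)).2
  have h2 := NLConvLib.projective_ker_cotangent E
  exact (show ∀ J : Ideal E.Ring, J = E.ker → Module.Projective (E.Ring ⧸ J) J.Cotangent from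
    fun J hJ => by subst hJ; exact h2) I hE.symm

theorem top_le_of_le_sup_pow {C M : Type u} [CommRing C] [IsLocalRing C] [IsArtinianRing C] [AddCommGroup M]
    [Module C M] {S : Submodule C M} (h : ⊤ ≤ S ⊔ maximalIdeal C • (⊤ : Submodule C M)) : S = ⊤ := by
  obtain ⟨n, hn⟩ := maximalIdeal_isNilpotent (C := C)
  have key : ∀ j, ⊤ ≤ S ⊔ maximalIdeal C ^ j • (⊤ : Submodule C M) := by
    intro j
    induction j with
    | zero => simp
    | succ j ih =>
      refine ih.trans (sup_le le_sup_left ((Submodule.smul_mono le_rfl h).trans ?_))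
      rw [Submodule.smul_sup, ← Submodule.mul_smul, ← pow_succ]
      exact sup_le_sup_right Submodule.smul_le_right _
  have := key n
  rw [hn, Submodule.zero_eq_bot, Submodule.bot_smul, sup_bot_eq] at this
  exact top_le_iff.1 this

variable {Λ k : Type u} [CommRing Λ] [Field k] [Algebra Λ k] {A₀ : Type u} [CommRing A₀] [Algebra k A₀]

theorem isAffine_total' {A : ArtFun.Art Λ k}
    (ξ : ArtFun.DefSch (Spec (CommRingCat.of A₀)) (Spec.map (CommRingCat.ofHom (algebraMap k A₀))) A) :
    IsAffine ξ.total := by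
  haveI : IsClosedImmersion (ArtFun.Art.specRes A) :=
    IsClosedImmersion.spec_of_surjective _ A.res_surjective
  haveI : Subsingleton (PrimeSpectrum A) :=
    ⟨fun p q => PrimeSpectrum.ext ((IsLocalRing.eq_maximalIdeal (IsArtinianRing.isMaximal_of_isPrime p.asIdeal)).trans
      (IsLocalRing.eq_maximalIdeal (IsArtinianRing.isMaximal_of_isPrime q.asIdeal)).symm)⟩
  haveI : Surjective (ArtFun.Art.specRes A) :=
    ⟨fun p => ⟨IsLocalRing.closedPoint k, Subsingleton.elim (α := PrimeSpectrum A) _ _⟩⟩
  haveI : IsClosedImmersion ξ.i :=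
    MorphismProperty.of_isPullback (P := @IsClosedImmersion) ξ.isPullback.flip inferInstance
  haveI : Surjective ξ.i :=
    MorphismProperty.of_isPullback (P := @Surjective) ξ.isPullback.flip inferInstance
  exact Groth.Agent.S0440.result ξ.i ξ.i.surjective

theorem exists_algebraic {C' C k R A₀ : Type u} [CommRing C'] [IsLocalRing C'] [IsArtinianRing C'] [CommRing C]
    [IsLocalRing C] [IsArtinianRing C] [Field k] [CommRing R] [CommRing A₀] [Algebra k A₀]
    (μ : C' →+* C) (hμ : Function.Surjective μ) (res : C →+* k) (hres : Function.Surjective res)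
    (φ : C →+* R) (hflat : φ.Flat) (qR : R →+* A₀) (hsq : qR.comp φ = (algebraMap k A₀).comp res)
    (hqs : Function.Surjective qR) (hqk : RingHom.ker qR ≤ (RingHom.ker res).map φ) (hA : LCI.IsLCI k A₀) :
    ∃ (R' : Type u) (_ : CommRing R') (a : C' →+* R') (ψ : R' →+* R), a.Flat ∧ Function.Surjective ψ ∧
      ψ.comp a = φ.comp μ ∧ RingHom.ker ψ ≤ (RingHom.ker μ).map a := by
  classical
  obtain ⟨-, n, f, hf, hfI⟩ := hA
  let I : Ideal (MvPolynomial (Fin n) k) := RingHom.ker f.toRingHom
  have hI : KRLib.LocKR I := (KRLib.locKR_iff I).2 hfI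
  have hkres : RingHom.ker res = maximalIdeal C :=
    IsLocalRing.eq_maximalIdeal (RingHom.ker_isMaximal_of_surjective res hres)
  let res' : C' →+* k := res.comp μ
  have hres' : Function.Surjective res' := hres.comp hμ
  have hkres' : RingHom.ker res' = maximalIdeal C' :=
    IsLocalRing.eq_maximalIdeal (RingHom.ker_isMaximal_of_surjective res' hres')
  let P := MvPolynomial (Fin n) C'
  let q : P →+* MvPolynomial (Fin n) k := MvPolynomial.map res'
  letI : Algebra P (MvPolynomial (Fin n) k) := q.toAlgebra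
  have hq : Function.Surjective (algebraMap P (MvPolynomial (Fin n) k)) := MvPolynomial.map_surjective res' hres'
  have hker : RingHom.ker (algebraMap P (MvPolynomial (Fin n) k)) = (maximalIdeal C').map (algebraMap C' P) := by
    show RingHom.ker q = _
    rw [MvPolynomial.ker_map, hkres']
    rfl
  choose y hy using fun i => hqs (f (MvPolynomial.X i))
  let ψ : P →+* R := MvPolynomial.eval₂Hom (φ.comp μ) y
  have hψC : ∀ c, ψ (algebraMap C' P c) = φ (μ c) := fun c => MvPolynomial.eval₂Hom_C _ _ c
  have hfq : ∀ p, qR (ψ p) = f (q p) := fun p => by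
    have : qR.comp ψ = f.toRingHom.comp q := by
      refine MvPolynomial.ringHom_ext (fun c => ?_) (fun i => ?_)
      · show qR (ψ (MvPolynomial.C c)) = f (q (MvPolynomial.C c))
        rw [MvPolynomial.map_C, MvPolynomial.eval₂Hom_C, ← MvPolynomial.algebraMap_eq, f.commutes]
        exact RingHom.congr_fun hsq (μ c)
      · show qR (ψ (MvPolynomial.X i)) = f (q (MvPolynomial.X i))
        rw [MvPolynomial.map_X, MvPolynomial.eval₂Hom_X', hy]
    exact RingHom.congr_fun this p
  letI : Algebra C' R := (φ.comp μ).toAlgebra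
  letI : Algebra C R := φ.toAlgebra
  have hker_qR : ∀ r, qR r = 0 → r ∈ ((maximalIdeal C').map (algebraMap C' P)).map ψ := fun r hr => by
    have h1 := hqk hr
    rw [Ideal.map_map, show ψ.comp (algebraMap C' P) = φ.comp μ from RingHom.ext hψC, ← Ideal.map_map]
    refine Ideal.map_mono ?_ h1
    rw [← hkres']
    intro c hc
    obtain ⟨c', rfl⟩ := hμ c
    exact Ideal.mem_map_of_mem μ (show res' c' = 0 from hc)
  let ψₐ : P →ₐ[C'] R := { ψ with commutes' := hψC }
  have hψ : Function.Surjective ψ := by
    have hS := top_le_of_le_sup_pow (S := LinearMap.range ψₐ.toLinearMap) (by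
      intro r _
      obtain ⟨z, hz⟩ := hf (qR r)
      obtain ⟨p, rfl⟩ := hq z
      have h1 : r - ψ p ∈ ((maximalIdeal C').map (algebraMap C' P)).map ψ :=
        hker_qR _ (by rw [map_sub, hfq, ← hz]; exact sub_self _)
      rw [Ideal.map_map, show ψ.comp (algebraMap C' P) = algebraMap C' R from RingHom.ext hψC] at h1
      have h2 : r - ψ p ∈ maximalIdeal C' • (⊤ : Submodule C' R) := by rw [Ideal.smul_top_eq_map]; exact h1
      rw [← add_sub_cancel (ψ p) r]
      exact Submodule.add_mem_sup ⟨p, rfl⟩ h2)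
    exact fun r => LinearMap.range_eq_top.1 hS r
  let K : Ideal P := RingHom.ker ψ
  let J : Ideal C' := RingHom.ker μ
  have hgood : Good I J K := by
    refine ⟨?_, le_antisymm ?_ ?_, ?_⟩
    · refine Ideal.map_le_iff_le_comap.2 fun j hj => ?_
      show ψ _ = 0
      rw [hψC, show μ j = 0 from hj, map_zero]
    · refine Ideal.map_le_iff_le_comap.2 fun p hp => ?_
      show f (q p) = 0
      rw [← hfq, show ψ p = 0 from hp, map_zero]
    · intro z hz
      obtain ⟨p, rfl⟩ := hq z
      obtain ⟨p', hp', hpp⟩ := (Ideal.mem_map_iff_of_surjective ψ hψ).1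
        (hker_qR (ψ p) (by rw [hfq]; exact hz))
      have h1 : p - p' ∈ K := by rw [RingHom.mem_ker, map_sub, hpp, sub_self]
      have h2 : q p' = 0 := by
        rw [← RingHom.mem_ker]
        exact hker.ge hp'
      rw [show algebraMap P (MvPolynomial (Fin n) k) p = q (p - p') by rw [map_sub, h2, sub_zero]; rfl]
      exact Ideal.mem_map_of_mem _ h1
    · intro x hx
      let PA := MvPolynomial (Fin n) C
      let π : P →+* PA := MvPolynomial.map μ
      have hπ : Function.Surjective π := MvPolynomial.map_surjective μ hμ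
      have hπk : RingHom.ker π = J.map (algebraMap C' P) := MvPolynomial.ker_map μ
      let χ : PA →ₐ[C] R := MvPolynomial.aeval y
      have hχ : χ.toRingHom.comp π = ψ := MvPolynomial.ringHom_ext
        (fun c => by
          show χ (MvPolynomial.map μ (MvPolynomial.C c)) = ψ (MvPolynomial.C c)
          rw [MvPolynomial.map_C, MvPolynomial.aeval_C]
          exact (hψC c).symm) (fun i => by
          show χ (MvPolynomial.map μ (MvPolynomial.X i)) = ψ (MvPolynomial.X i)
          rw [MvPolynomial.map_X, MvPolynomial.aeval_X]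
          exact (MvPolynomial.eval₂Hom_X' _ _ i).symm)
      have hχs : Function.Surjective χ := fun r => by
        obtain ⟨p, rfl⟩ := hψ r
        exact ⟨π p, RingHom.congr_fun hχ p⟩
      haveI : Module.Flat C R := hflat
      haveI : Module.Flat C (PA ⧸ RingHom.ker χ) :=
        Module.Flat.of_linearEquiv (Ideal.quotientKerAlgEquivOfSurjective hχs).toLinearEquiv
      have hm : ((maximalIdeal C').map (algebraMap C' P)).map π = (maximalIdeal C).map (algebraMap C PA) := by
        rw [Ideal.map_map, show π.comp (algebraMap C' P) = (algebraMap C PA).comp μ from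
          RingHom.ext fun c => MvPolynomial.map_C μ c, ← Ideal.map_map, ← hkres', ← hkres]
        congr 1
        refine le_antisymm (Ideal.map_le_iff_le_comap.2 fun c hc => hc) fun c hc => ?_
        obtain ⟨c', rfl⟩ := hμ c
        exact Ideal.mem_map_of_mem μ (show res' c' = 0 from hc)
      have hK : RingHom.ker χ = K.map π := by
        refine le_antisymm (fun z hz => ?_) (Ideal.map_le_iff_le_comap.2 fun p hp => ?_)
        · obtain ⟨p, rfl⟩ := hπ z
          exact Ideal.mem_map_of_mem π (show ψ p = 0 from (RingHom.congr_fun hχ p).symm.trans hz)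
        · exact (RingHom.congr_fun hχ p).trans hp
      have h1 : π x ∈ (maximalIdeal C).map (algebraMap C PA) * RingHom.ker χ :=
        inf_map_le_mul _ _ ⟨hK.ge (Ideal.mem_map_of_mem π hx.2), hm ▸ Ideal.mem_map_of_mem π hx.1⟩
      rw [hK, ← hm, ← Ideal.map_mul] at h1
      obtain ⟨x', hx', hxx⟩ := (Ideal.mem_map_iff_of_surjective π hπ).1 h1
      have h2 : x - x' ∈ J.map (algebraMap C' P) := hπk ▸ (by rw [RingHom.mem_ker, map_sub, hxx, sub_self])
      rw [← sub_add_cancel x x']
      exact Submodule.add_mem_sup h2 hx'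
  haveI := projective_cotangent_of_locKR (k := k) hI
  have hJ : J ≤ maximalIdeal C' := IsLocalRing.le_maximalIdeal (RingHom.ker_ne_top μ)
  obtain ⟨K', hK', hs⟩ := exists_lift hq hker hI hJ hgood
  refine ⟨P ⧸ K', inferInstance, (Ideal.Quotient.mk K').comp (algebraMap C' P),
    Ideal.Quotient.lift K' ψ (fun p hp => hs.le (Submodule.mem_sup_left hp)), ?_, ?_, ?_, ?_⟩
  · exact RingHom.flat_algebraMap_iff.2 (flat_of_good hq hker hI hK')
  · exact Ideal.Quotient.lift_surjective_of_surjective _ _ hψ
  · exact RingHom.ext hψC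
  · intro z hz
    obtain ⟨p, rfl⟩ := Ideal.Quotient.mk_surjective z
    obtain ⟨p₁, h₁, p₂, h₂, rfl⟩ := Submodule.mem_sup.1 (hs.ge (show p ∈ K from hz))
    rw [map_add, Ideal.Quotient.eq_zero_iff_mem.2 h₁, zero_add, ← Ideal.map_map]
    exact Ideal.mem_map_of_mem _ h₂

/-- Deformations of an affine local complete intersection are unobstructed. -/
theorem isSmoothFunctor (hA : LCI.IsLCI k A₀) :
    ArtFun.IsSmoothFunctor (ArtFun.defFunctor (Λ := Λ) (Spec (CommRingCat.of A₀))
      (Spec.map (CommRingCat.ofHom (algebraMap k A₀)))) := by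
  intro B A μ hμ y
  induction y using Quotient.inductionOn with
  | h ξ =>
  haveI := isAffine_total' ξ
  let R : CommRingCat.{u} := Γ(ξ.total, ⊤)
  let e : ξ.total ≅ Spec R := ξ.total.isoSpec
  let φ : CommRingCat.of A ⟶ R := Spec.preimage (e.inv ≫ ξ.f)
  have hφ : Spec.map φ = e.inv ≫ ξ.f := Spec.map_preimage _
  let qR : R ⟶ CommRingCat.of A₀ := Spec.preimage (ξ.i ≫ e.hom)
  have hqR : Spec.map qR = ξ.i ≫ e.hom := Spec.map_preimage _
  have sqB : IsPushout φ (CommRingCat.ofHom A.res.toRingHom) qR (CommRingCat.ofHom (algebraMap k A₀)) := by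
    refine DefLib.isPushout_of_isPullback_SpecMap ?_
    refine ξ.isPullback.of_iso (Iso.refl _) e (Iso.refl _) (Iso.refl _) ?_ ?_ ?_ ?_
    · simp [hqR]
    · simp
    · simp [hφ]
    · simp; rfl
  obtain ⟨hqs, hqk⟩ := DefLib.surjective_ker_of_isPushout sqB.flip A.res_surjective
  have hflat : φ.hom.Flat := by
    have : Flat (Spec.map φ) := by rw [hφ]; infer_instance
    exact (HasRingHomProperty.Spec_iff (P := @Flat)).1 this
  obtain ⟨R', _, a, ψ, ha, hψ, hcomm, hk⟩ := exists_algebraic μ.toAlgHom.toRingHom hμ A.res.toRingHom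
    A.res_surjective φ.hom hflat qR.hom (congrArg CommRingCat.Hom.hom sqB.w) hqs hqk hA
  have hpo : IsPushout (CommRingCat.ofHom μ.toAlgHom.toRingHom) (CommRingCat.ofHom a) φ (CommRingCat.ofHom ψ) :=
    DefLib.isPushout_of_surjective _ _ _ _ (by ext c; exact (RingHom.congr_fun hcomm c).symm) hμ hψ hk
  let g : ξ.total ⟶ Spec (CommRingCat.of R') := e.hom ≫ Spec.map (CommRingCat.ofHom ψ)
  have sq2 : IsPullback g ξ.f (Spec.map (CommRingCat.ofHom a)) (ArtFun.Art.specMap μ) := by
    refine (isPullback_SpecMap_of_isPushout _ _ _ _ hpo).flip.of_iso e.symm (Iso.refl _) (Iso.refl _)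
      (Iso.refl _) ?_ ?_ ?_ ?_
    · simp [g]
    · simp [hφ]
    · simp
    · simp; rfl
  let ξ' : ArtFun.DefSch (Spec (CommRingCat.of A₀)) (Spec.map (CommRingCat.ofHom (algebraMap k A₀))) B :=
    { total := Spec (CommRingCat.of R')
      f := Spec.map (CommRingCat.ofHom a)
      flat := (HasRingHomProperty.Spec_iff (P := @Flat)).2 ha
      i := ξ.i ≫ g
      isPullback := by
        rw [← ArtFun.Art.specRes_comp μ]
        exact ξ.isPullback.paste_horiz sq2 }
  refine ⟨ξ'.cl, ?_⟩
  rw [ArtFun.defFunctor_map_cl]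
  refine Quotient.sound ⟨?_⟩
  let E := (IsPullback.of_hasPullback ξ'.f (ArtFun.Art.specMap μ)).isoIsPullback _ _ sq2
  exact
    { iso := E
      hom_f := IsPullback.isoIsPullback_hom_snd _ _ _ _
      i_hom := by
        apply sq2.hom_ext
        · rw [Category.assoc, IsPullback.isoIsPullback_hom_fst, ArtFun.DefSch.baseChange_i_fst]
        · rw [Category.assoc, IsPullback.isoIsPullback_hom_snd]
          exact (ArtFun.DefSch.baseChange_i_f ξ' μ).trans ξ.i_f.symm }

end LCIDefLib
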